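import Cfsg.Agent.SmallSimple.BurnsideNC
import Cfsg.Agent.Prune
set_option linter.all false
prune_inst 0x7f00000000000000000000000000000000000000000000000000000000000000000000000000000000000000000000000000000000000000000000000000000000000000000000000000000000000000003fffffffffffffffffffffffffffbeffbdffffffff
open scoped Cfsg.Agent.FastGrp

/-!
# `|N(P) : C(P)|` for a Sylow subgroup of order `p` (helper495)

It is the residue of `|G : C(y)|` modulo `p`, `y` of order `p` (Sylow's theorem).
-/

set_option autoImplicit false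

open Subgroup

namespace Cfsg.Agent.H495.RatB

universe u

variable {G : Type u} [Group G] [Finite G]

/-- the centralizer of a subgroup of order `p` -/
theorem exists_gen {p : ℕ} [hp : Fact p.Prime] (P : Subgroup G) (hP : Nat.card P = p) :
    ∃ y : G, orderOf y = p ∧ centralizer (P : Set G) = centralizer ({y} : Set G) := by
  obtain ⟨y, hy⟩ := exists_prime_orderOf_dvd_card' (G := P) p (by rw [hP])
  have hy' : orderOf (y : G) = p := by rw [Subgroup.orderOf_coe, hy]
  refine ⟨y, hy', ?_⟩
  have h1 : zpowers (y : G) = P := by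
    refine Subgroup.eq_of_le_of_card_ge ?_ ?_
    · rw [zpowers_le]
      exact y.2
    · rw [hP, Nat.card_zpowers, hy']
  ext x
  rw [mem_centralizer_singleton_iff, mem_centralizer_iff]
  constructor
  · intro h
    exact (h y y.2).symm
  · intro h z hz
    have hz' : z ∈ zpowers (y : G) := by rw [h1]; exact hz
    obtain ⟨k, rfl⟩ := hz'
    exact ((show Commute x (y : G) from h).zpow_right k).symm

/-- `|N(P) : C(P)| ≡ |G : C(y)|` modulo `p` -/
theorem relIndex_eq {p : ℕ} [hp : Fact p.Prime] (P : Sylow p G) (hP : Nat.card P = p) {c : ℕ}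
    (hc : ∀ y : G, orderOf y = p → Nat.card (centralizer ({y} : Set G)) = c) :
    (centralizer (P : Set G)).relIndex (normalizer (P : Set G)) = (Nat.card G / c) % p := by
  obtain ⟨y, hy, hCy⟩ := exists_gen (P : Subgroup G) hP
  have hcy := hc y hy
  obtain ⟨e, he⟩ : ∃ e, (centralizer (P : Set G)).relIndex (normalizer (P : Set G)) = e := ⟨_, rfl⟩
  have h1 : Nat.card (normalizer (P : Set G)) = c * e := by
    have h0 := SmallSimple.BurnsideNC.card_normalizer_eq (P : Subgroup G)
    rw [hCy, hcy] at h0
    have he' : (centralizer ((P : Subgroup G) : Set G)).relIndex (normalizer ((P : Subgroup G) : Set G)) = e := he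
    rw [hCy] at he'
    rw [he'] at h0
    exact h0
  have h2 := SmallSimple.BurnsideNC.card_sylow_mul_card_normalizer P
  have h3 : Nat.card (Sylow p G) ≡ 1 [MOD p] := card_sylow_modEq_one p G
  have hc0 : 0 < c := by rw [← hcy]; exact Nat.card_pos
  have hd := SmallSimple.BurnsideNC.relIndex_dvd_of_card_eq_prime P hP
  rw [he] at hd ⊢
  have h4 : Nat.card G / c = Nat.card (Sylow p G) * e := by
    rw [← h2, h1, mul_comm c e, ← mul_assoc, Nat.mul_div_cancel _ hc0]
  rw [h4]
  have h5 : Nat.card (Sylow p G) * e ≡ 1 * e [MOD p] := h3.mul_right e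
  rw [one_mul] at h5
  have h6 : e < p := lt_of_le_of_lt (Nat.le_of_dvd (Nat.sub_pos_of_lt hp.out.one_lt) hd) (Nat.sub_lt hp.out.pos one_pos)
  rw [show Nat.card (Sylow p G) * e % p = e % p from h5, Nat.mod_eq_of_lt h6]

end Cfsg.Agent.H495.RatB
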